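import Cfsg.Prelude.Def_SylowChains
import Cfsg.Agent.Lib.PGroup.Basic
import Mathlib.GroupTheory.Sylow
import Mathlib.GroupTheory.Perm.Cycle.Type
import Mathlib.Tactic.Group

/-! Strongly p-embedded subgroups in the classical sense, and Sylow chain connectedness. -/
set_option autoImplicit false

namespace Cfsg.Agent.StrongEmb

open Subgroup
open scoped Pointwise

variable {G : Type*} [Group G] [Finite G] {p : ℕ} [Fact p.Prime]

/-- `H` meets its conjugates by outside elements in subgroups of order prime to `p`. -/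
def MeetsPrime (p : ℕ) (H : Subgroup G) : Prop :=
  ∀ g : G, g ∉ H → ¬ p ∣ Nat.card ↥(H ⊓ H.map (MulAut.conj g).toMonoidHom)

theorem dvd_card_of_ne_bot {Q : Subgroup G} (hQ : IsPGroup p Q) (h : Q ≠ ⊥) :
    p ∣ Nat.card Q := by
  haveI := (nontrivial_iff_ne_bot Q).mpr h
  obtain ⟨n, hn, hc⟩ := hQ.nontrivial_iff_card.mp inferInstance
  exact hc ▸ dvd_pow_self p hn.ne'

omit [Finite G] in
theorem mem_smul_sylow_iff {g x : G} {P : Sylow p G} :
    x ∈ ((g • P : Sylow p G) : Subgroup G) ↔ g⁻¹ * x * g ∈ (P : Subgroup G) := by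
  rw [Sylow.coe_subgroup_smul, Subgroup.mem_pointwise_smul_iff_inv_smul_mem]
  simp

theorem mem_of_common {H : Subgroup G} (hse : MeetsPrime p H) {g : G} {Q : Subgroup G}
    (hQ : IsPGroup p Q) (hQ1 : Q ≠ ⊥) (hQH : Q ≤ H) (hconj : ∀ q ∈ Q, g⁻¹ * q * g ∈ H) : g ∈ H := by
  by_contra hg
  apply hse g hg
  refine dvd_trans (dvd_card_of_ne_bot hQ hQ1) (card_dvd_of_le (le_inf hQH ?_))
  intro q hq
  exact ⟨g⁻¹ * q * g, hconj q hq, by simp [mul_assoc]⟩

theorem normalizer_le {H : Subgroup G} (hse : MeetsPrime p H) {Q : Subgroup G}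
    (hQ : IsPGroup p Q) (hQ1 : Q ≠ ⊥) (hQH : Q ≤ H) : Subgroup.normalizer (Q : Set G) ≤ H := by
  intro g hg
  refine mem_of_common hse hQ hQ1 hQH fun q hq => hQH ?_
  rw [Subgroup.mem_normalizer_iff] at hg
  exact (hg _).mpr (by simpa [mul_assoc] using hq)

theorem centralizer_le {H : Subgroup G} (hse : MeetsPrime p H) {x : G} (hx : orderOf x = p)
    (hxH : x ∈ H) : Subgroup.centralizer ({x} : Set G) ≤ H := by
  have hp : p.Prime := Fact.out
  intro g hg
  refine mem_of_common (Q := zpowers x) hse (IsPGroup.of_card (n := 1) (by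
    rw [Nat.card_zpowers, hx, pow_one])) ?_ (zpowers_le.mpr hxH) ?_
  · rw [Ne, zpowers_eq_bot]
    intro h
    rw [h, orderOf_one] at hx
    exact hp.one_lt.ne hx
  · intro q hq
    obtain ⟨k, rfl⟩ := mem_zpowers_iff.mp hq
    have hc : g * x ^ k = x ^ k * g :=
      (Commute.zpow_right (mem_centralizer_singleton_iff.mp hg : Commute g x) k)
    rw [mul_assoc, ← hc, inv_mul_cancel_left]
    exact zpow_mem hxH k

/-- A `p`-subgroup meeting `H` nontrivially lies in `H`. -/
theorem le_of_inf_ne_bot {H : Subgroup G} (hse : MeetsPrime p H) {U : Subgroup G}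
    (hU : IsPGroup p U) (h : U ⊓ H ≠ ⊥) : U ≤ H := by
  let Q : Subgroup U := H.subgroupOf U
  by_contra hn
  have hQ : Q ≠ ⊤ := by
    intro h'
    exact hn (subgroupOf_eq_top.mp h')
  obtain ⟨g, hg, hgQ⟩ := SetLike.exists_of_lt (PGroup.lt_normalizer hU hQ)
  apply hgQ
  refine mem_of_common (Q := U ⊓ H) hse (hU.to_le inf_le_left) h inf_le_right ?_
  intro q hq
  have := (Subgroup.mem_normalizer_iff.mp hg (g⁻¹ * ⟨q, hq.1⟩ * g)).mpr (by
    show g * (g⁻¹ * ⟨q, hq.1⟩ * g) * g⁻¹ ∈ Q
    simpa [mul_assoc, Q, mem_subgroupOf] using hq.2)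
  simpa [Q, mem_subgroupOf] using this

theorem exists_sylow_le {H : Subgroup G} (hse : MeetsPrime p H) (hpH : p ∣ Nat.card H) :
    ∃ S : Sylow p G, (S : Subgroup G) ≤ H := by
  have hp : p.Prime := Fact.out
  obtain ⟨x, hx⟩ := exists_prime_orderOf_dvd_card' p hpH
  have hx' : orderOf (x : G) = p := by rw [Subgroup.orderOf_coe]; exact hx
  have hxp : IsPGroup p (zpowers (x : G)) :=
    IsPGroup.of_card (n := 1) (by rw [Nat.card_zpowers, hx', pow_one])
  obtain ⟨S, hS⟩ := hxp.exists_le_sylow
  refine ⟨S, le_of_inf_ne_bot hse S.2 ?_⟩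
  intro h
  have hm : (x : G) ∈ (⊥ : Subgroup G) := h ▸ ⟨hS (mem_zpowers _), x.2⟩
  rw [mem_bot] at hm
  rw [hm, orderOf_one] at hx'
  exact hp.one_lt.ne hx'

theorem eq_top_of_normal {H : Subgroup G} (hse : MeetsPrime p H) {N : Subgroup G} [N.Normal]
    (hN : p ∣ Nat.card N) (hNH : N ≤ H) : H = ⊤ := by
  refine eq_top_iff.mpr fun g _ => ?_
  by_contra hg
  apply hse g hg
  refine dvd_trans hN (card_dvd_of_le (le_inf hNH ?_))
  intro n hn
  exact ⟨g⁻¹ * n * g, hNH (by simpa using ‹N.Normal›.conj_mem n hn g⁻¹), by simp [mul_assoc]⟩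

/-- Adjacency in the Sylow intersection graph. -/
def Adj (S T : Sylow p G) : Prop := S ≠ T ∧ (S : Subgroup G) ⊓ (T : Subgroup G) ≠ ⊥

omit [Finite G] in
theorem Adj.symm {S T : Sylow p G} (h : Adj S T) : Adj T S := ⟨h.1.symm, by rw [inf_comm]; exact h.2⟩

omit [Finite G] in
theorem Adj.smul {S T : Sylow p G} (g : G) (h : Adj S T) : Adj (g • S) (g • T) := by
  refine ⟨fun e => h.1 (smul_left_cancel g e), fun hb => h.2 ?_⟩
  rw [eq_bot_iff] at hb ⊢
  intro x hx
  have : g * x * g⁻¹ ∈ (⊥ : Subgroup G) := hb ⟨mem_smul_sylow_iff.mpr (show g⁻¹ * (g * x * g⁻¹) * g ∈ (S : Subgroup G) by simp only [mul_assoc, inv_mul_cancel_left, inv_mul_cancel, mul_one]; exact hx.1),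
    mem_smul_sylow_iff.mpr (show g⁻¹ * (g * x * g⁻¹) * g ∈ (T : Subgroup G) by simp only [mul_assoc, inv_mul_cancel_left, inv_mul_cancel, mul_one]; exact hx.2)⟩
  simpa using this

/-- Connectedness in the graph. -/
def Reach (S T : Sylow p G) : Prop := Relation.ReflTransGen Adj S T

omit [Finite G] in
theorem Reach.symm {S T : Sylow p G} (h : Reach S T) : Reach T S :=
  by induction h with
  | refl => exact .refl
  | tail _ h ih => exact Relation.ReflTransGen.head h.symm ih

omit [Finite G] in
theorem Reach.smul {S T : Sylow p G} (g : G) (h : Reach S T) : Reach (g • S) (g • T) :=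
  by induction h with
  | refl => exact .refl
  | tail _ h ih => exact ih.tail (h.smul g)

omit [Finite G] in
theorem reach_of_common {S T : Sylow p G} {x : G} (hx : x ≠ 1) (hS : x ∈ (S : Subgroup G))
    (hT : x ∈ (T : Subgroup G)) : Reach S T := by
  by_cases h : S = T
  · exact h ▸ Relation.ReflTransGen.refl
  · exact .single ⟨h, fun hb => hx (by simpa [hb, mem_bot] using (mem_inf.mpr ⟨hS, hT⟩))⟩

omit [Finite G] in
theorem connected_iff : IsSylowChainConnected p G ↔ ∀ S T : Sylow p G, Reach S T := by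
  constructor
  · intro h S T
    obtain ⟨n, c, h0, hl, -, hc⟩ := h S T
    subst h0 hl
    have : ∀ i, Reach (c 0) (c i) := by
      intro i
      induction i using Fin.induction with
      | zero => exact .refl
      | succ i ih => exact ih.tail (hc i)
    exact this _
  · intro h S T
    by_cases hb : (S : Subgroup G) ⊓ (T : Subgroup G) = ⊥
    · suffices ∃ (n : ℕ) (c : Fin (n + 1) → Sylow p G), c 0 = S ∧ c (Fin.last n) = T ∧
          ∀ i : Fin n, Adj (c i.castSucc) (c i.succ) by
        obtain ⟨n, c, h0, hl, hc⟩ := this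
        exact ⟨n, c, h0, hl, fun i => by rw [hb]; exact bot_le, hc⟩
      clear hb
      have hST := h S T
      induction hST using Relation.ReflTransGen.head_induction_on with
      | refl => exact ⟨0, fun _ => T, rfl, rfl, fun i => i.elim0⟩
      | @head a b hab _ ih =>
        obtain ⟨n, c, h0, hl, hc⟩ := ih
        refine ⟨n + 1, Fin.cons a c, rfl, ?_, ?_⟩
        · rw [← Fin.succ_last, Fin.cons_succ, hl]
        · intro i
          induction i using Fin.cases with
          | zero => simpa [h0] using hab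
          | succ j => simpa [← Fin.succ_castSucc] using hc j
    · by_cases he : S = T
      · subst he
        exact ⟨0, fun _ => S, rfl, rfl, fun _ => inf_le_left, fun i => i.elim0⟩
      · refine ⟨1, Fin.cons S (fun _ => T), rfl, rfl, fun i => ?_, fun i => ?_⟩
        · induction i using Fin.cases with
          | zero => exact inf_le_left
          | succ j => exact inf_le_right
        · obtain rfl : i = 0 := Subsingleton.elim _ _
          exact ⟨he, hb⟩

theorem exists_meetsPrime_of_not_connected (h : ¬ IsSylowChainConnected p G) :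
    ∃ H : Subgroup G, H ≠ ⊤ ∧ p ∣ Nat.card H ∧ MeetsPrime p H := by
  have hp : p.Prime := Fact.out
  rw [connected_iff] at h
  push Not at h
  obtain ⟨S, T, hST⟩ := h
  let H : Subgroup G :=
    { carrier := {g | Reach S (g • S)}
      one_mem' := by show Reach S ((1 : G) • S); rw [one_smul]; exact .refl
      mul_mem' := fun {a b} ha hb => by
        show Reach S ((a * b) • S)
        rw [mul_smul]
        exact ha.trans (hb.smul a)
      inv_mem' := fun {a} ha => by
        have := (ha.smul a⁻¹).symm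
        simpa using this }
  have hSH : (S : Subgroup G) ≤ H := fun s hs => by
    show Reach S (s • S)
    rw [Sylow.smul_eq_iff_mem_normalizer.mpr (le_normalizer hs)]
    exact .refl
  have hS1 : (S : Subgroup G) ≠ ⊥ := by
    intro hb
    apply hST
    have : S = T := by
      obtain ⟨g, rfl⟩ := MulAction.exists_smul_eq G S T
      ext x
      rw [mem_smul_sylow_iff, hb, mem_bot, mem_bot]
      constructor
      · rintro rfl; simp
      · intro h1; exact by simpa [mul_assoc] using congrArg (fun z => g * z * g⁻¹) h1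
    exact this ▸ .refl
  refine ⟨H, ?_, dvd_trans (dvd_card_of_ne_bot S.2 hS1) (card_dvd_of_le hSH), ?_⟩
  · intro htop
    obtain ⟨g, rfl⟩ := MulAction.exists_smul_eq G S T
    exact hST (show g ∈ H by rw [htop]; trivial)
  · intro g hg hdvd
    apply hg
    obtain ⟨x, hx⟩ := exists_prime_orderOf_dvd_card' p hdvd
    obtain ⟨x, hxH, ⟨y, hy, hyx⟩⟩ := x
    rw [← Subgroup.orderOf_coe] at hx
    change orderOf x = p at hx
    have hy' : orderOf y = p := by
      rw [← hx, ← hyx]
      exact (orderOf_injective (MulAut.conj g).toMonoidHom (MulAut.conj g).injective y).symm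
    -- every element of order `p` of `H` lies in a Sylow subgroup in the component of `S`
    have key : ∀ z ∈ H, orderOf z = p → ∃ h ∈ H, z ∈ ((h • S : Sylow p G) : Subgroup G) := by
      intro z hz hzp
      have hzg : IsPGroup p (zpowers (⟨z, hz⟩ : H)) := IsPGroup.of_card (n := 1) (by
        rw [Nat.card_zpowers, ← Subgroup.orderOf_coe, pow_one]; exact hzp)
      obtain ⟨P, hP⟩ := hzg.exists_le_sylow
      obtain ⟨h, hh⟩ := MulAction.exists_smul_eq H (S.subtype hSH) P
      refine ⟨h, h.2, mem_smul_sylow_iff.mpr ?_⟩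
      have := hP (mem_zpowers (⟨z, hz⟩ : H))
      rw [← hh, mem_smul_sylow_iff, Sylow.coe_subtype, mem_subgroupOf] at this
      simpa using this
    obtain ⟨a, ha, hxa⟩ := key x hxH hx
    obtain ⟨b, hb, hyb⟩ := key y hy hy'
    have hxb : x ∈ (((g * b) • S : Sylow p G) : Subgroup G) := by
      rw [mem_smul_sylow_iff, ← hyx]
      rw [mem_smul_sylow_iff] at hyb
      simpa [mul_assoc] using hyb
    have h1 : Reach S ((g * b) • S) := Relation.ReflTransGen.trans ha
      (reach_of_common (fun h1 => by rw [h1, orderOf_one] at hx; exact hp.one_lt.ne hx) hxa hxb)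
    show Reach S (g • S)
    rw [mul_smul] at h1
    exact h1.trans (Reach.symm (Reach.smul g hb))

theorem not_connected_of_meetsPrime {H : Subgroup G} (hH : H ≠ ⊤) (hpH : p ∣ Nat.card H)
    (hse : MeetsPrime p H) : ¬ IsSylowChainConnected p G := by
  intro hcon
  rw [connected_iff] at hcon
  obtain ⟨S, hS⟩ := exists_sylow_le hse hpH
  have hall : ∀ T : Sylow p G, (T : Subgroup G) ≤ H := by
    intro T
    have := hcon S T
    induction this with
    | refl => exact hS
    | @tail U V _ hUV ih =>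
      refine le_of_inf_ne_bot hse V.2 fun hb => hUV.2 ?_
      rw [eq_bot_iff] at hb ⊢
      exact fun x hx => hb ⟨hx.2, ih hx.1⟩
  refine hH (eq_top_iff.mpr fun g _ => ?_)
  have hS1 : (S : Subgroup G) ≠ ⊥ := by
    intro hb
    have h := S.not_dvd_index
    have := (card_mul_index (S : Subgroup G))
    rw [hb] at h
    rw [index_bot] at h
    exact h (hpH.trans (card_subgroup_dvd_card H))
  refine mem_of_common (Q := (S : Subgroup G)) hse S.2 hS1 hS fun q hq => ?_
  exact hall (g⁻¹ • S) (mem_smul_sylow_iff.mpr (by simpa [mul_assoc] using hq))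

end Cfsg.Agent.StrongEmb
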